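import Cfsg.Agent.CosetEnum.Fi23G.Data

set_option autoImplicit false
set_option maxRecDepth 100000
set_option Elab.async false

/-! Deductions for the coset table on 6 cosets (generated certificate). -/

namespace CfsgLib.CosetEnum.Fi23G

def B0 : ℕ := 0x5ff

theorem tree0 : foldR (tree 2 tb id parN parX) 3 0 0 = B0 := by decide +kernel

theorem goodT0 : enum.Good B0 := enum.good_tree_block 3 0 _ _ enum.good_zero tree0

theorem good0 : enum.Good B0 := goodT0

def D1 : ℕ := 0xff000000000103

def B1 : ℕ := 0xfff

theorem step1 : runDed 2 tb id wd 3 3 1 D1 B0 = B1 := by decide +kernel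

theorem good1 : enum.Good B1 :=
  enum.good_ded 1 D1 3 3 _ _ rfl rfl good0 step1

end CfsgLib.CosetEnum.Fi23G
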